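import Mathlib
import Cfsg.Prelude.Def_Local
import Cfsg.Prelude.Def_CaseTheorems

set_option autoImplicit false

/-! Project TC (S2929): overgroups of a Sylow 3-subgroup of a symmetric group whose
generalized Fitting subgroup is quasisimple. This file only states the package lemmas as
`Prop`s. -/

namespace Cfsg.Agent.Lib.Helper73.TC

open Equiv

/-- The generalized Fitting subgroup of `H`, as a subgroup of the ambient group. -/
def fstar {G : Type} [Group G] (H : Subgroup G) : Subgroup G :=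
  (Cfsg.generalizedFittingSubgroup ↥H).map H.subtype

/-- `K` is normalized by `T`, and `T` by `H`, where `K ≤ T ≤ H`. -/
def Chain2 {G : Type} [Group G] (K T H : Subgroup G) : Prop :=
  K ≤ T ∧ T ≤ H ∧ (∀ t ∈ T, ∀ k ∈ K, t * k * t⁻¹ ∈ K) ∧ (∀ h ∈ H, ∀ t ∈ T, h * t * h⁻¹ ∈ T)

/-- The even permutations fixing every point outside `O`. -/
def altOn {α : Type} [Fintype α] [DecidableEq α] (O : Finset α) : Subgroup (Perm α) :=
  alternatingGroup α ⊓ fixingSubgroup (Perm α) ((↑O : Set α)ᶜ)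

/-- The subgroup generated by the 3-cycles of `H`. -/
def threeGen {α : Type} [Fintype α] [DecidableEq α] (H : Subgroup (Perm α)) :
    Subgroup (Perm α) :=
  Subgroup.closure {c : Perm α | c ∈ H ∧ c.IsThreeCycle}

/-- Package COMP: a subnormal non-abelian simple subgroup is the generalized Fitting
subgroup, when that is quasisimple. -/
def LemComp : Prop :=
  ∀ (G : Type) [Group G] [Finite G] (K T H : Subgroup G),
    Cfsg.IsQuasisimple ↥(Cfsg.generalizedFittingSubgroup ↥H) → Chain2 K T H →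
    IsSimpleGroup ↥K → (∃ a ∈ K, ∃ b ∈ K, a * b ≠ b * a) → K = fstar H

/-- Package NILP: a subnormal `p`-subgroup is central in the generalized Fitting subgroup,
when that is quasisimple. -/
def LemNilp : Prop :=
  ∀ (G : Type) [Group G] [Finite G] (V T H : Subgroup G) (p : ℕ),
    Cfsg.IsQuasisimple ↥(Cfsg.generalizedFittingSubgroup ↥H) → Chain2 V T H →
    p.Prime → IsPGroup p ↥V →
    V ≤ fstar H ∧ ∀ l ∈ fstar H, ∀ v ∈ V, l * v = v * l

/-- Package PERF: a quasisimple generalized Fitting subgroup is perfect. -/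
def LemPerf : Prop :=
  ∀ (G : Type) [Group G] [Finite G] (H : Subgroup G),
    Cfsg.IsQuasisimple ↥(Cfsg.generalizedFittingSubgroup ↥H) → ⁅fstar H, fstar H⁆ = fstar H

/-- Package THREE: a subgroup containing a Sylow 3-subgroup of the symmetric group has
3-cycles moving all but at most two points. -/
def LemThree : Prop :=
  ∀ (n : ℕ) (H : Subgroup (Perm (Fin n))),
    (∃ P : Sylow 3 (Perm (Fin n)), (P : Subgroup (Perm (Fin n))) ≤ H) →
    ∃ s : Finset (Fin n), n ≤ s.card + 2 ∧ ∀ x ∈ s, ∃ c ∈ H, c.IsThreeCycle ∧ c x ≠ x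

/-- Package GEN3: a group generated by 3-cycles contains every even permutation supported
on one of its nontrivial orbits. -/
def LemGenThree : Prop :=
  ∀ (α : Type) [Fintype α] [DecidableEq α] (S : Set (Perm α)),
    (∀ c ∈ S, c.IsThreeCycle) → ∀ x : α, (∃ c ∈ S, c x ≠ x) →
    ∀ g : Perm α, Perm.sign g = 1 → (∀ y, g y ≠ y → ∃ t ∈ Subgroup.closure S, t x = y) →
      g ∈ Subgroup.closure S

/-- Package ALTISO: `altOn O` is an alternating group of degree `O.card`. -/
def LemAltIso : Prop :=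
  ∀ (α : Type) [Fintype α] [DecidableEq α] (O : Finset α),
    Nonempty (↥(altOn O) ≃* ↥(alternatingGroup (Fin O.card)))

/-- Package ALTSIMPLE: `altOn O` is non-abelian simple when `O` has at least 5 points. -/
def LemAltSimple : Prop :=
  ∀ (α : Type) [Fintype α] [DecidableEq α] (O : Finset α), 5 ≤ O.card →
    IsSimpleGroup ↥(altOn O) ∧ ∃ a ∈ altOn O, ∃ b ∈ altOn O, a * b ≠ b * a

/-- Package ALTINJ: `altOn O` determines `O` when `O` has at least 3 points. -/
def LemAltInj : Prop :=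
  ∀ (α : Type) [Fintype α] [DecidableEq α] (O O' : Finset α), 3 ≤ O.card →
    altOn O ≤ altOn O' → O ⊆ O'

/-- Package SMALL: for 3 or 4 points, a characteristic transitive `p`-subgroup of
`altOn O`. -/
def LemSmall : Prop :=
  ∀ (α : Type) [Fintype α] [DecidableEq α] (O : Finset α), (O.card = 3 ∨ O.card = 4) →
    ∃ (V : Subgroup (Perm α)) (p : ℕ), p.Prime ∧ IsPGroup p ↥V ∧ V ≤ altOn O ∧
      (∀ x ∈ O, ∀ y ∈ O, ∃ v ∈ V, v x = y) ∧
      ∀ g : Perm α, (∀ x, g x ∈ O ↔ x ∈ O) → ∀ v ∈ V, g * v * g⁻¹ ∈ V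

/-- Package CENT: a perfect group cannot contain a central subgroup which is transitive on
its support. -/
def LemCent : Prop :=
  ∀ (α : Type) [Fintype α] [DecidableEq α] (L V : Subgroup (Perm α)) (O : Finset α),
    V ≤ L → (∀ l ∈ L, ∀ v ∈ V, l * v = v * l) → (∀ v ∈ V, ∀ x, x ∉ O → v x = x) →
    (∀ x ∈ O, ∀ y ∈ O, ∃ v ∈ V, v x = y) → 2 ≤ O.card → ⁅L, L⁆ = L → False

/-- Package ORB: the orbits of the group generated by the 3-cycles of `H`. -/
def LemOrb : Prop :=
  ∀ (α : Type) [Fintype α] [DecidableEq α] (H : Subgroup (Perm α)) (x : α) (O : Finset α),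
    (∃ c ∈ H, c.IsThreeCycle ∧ c x ≠ x) → (∀ y, y ∈ O ↔ ∃ t ∈ threeGen H, t x = y) →
    3 ≤ O.card ∧ altOn O ≤ threeGen H ∧ (∀ t ∈ threeGen H, ∀ y, t y ∈ O ↔ y ∈ O) ∧
      threeGen H ≤ H ∧ ∀ h ∈ H, ∀ t ∈ threeGen H, h * t * h⁻¹ ∈ threeGen H

/-- Package NORM: permutations preserving `O` normalize `altOn O`. -/
def LemAltNorm : Prop :=
  ∀ (α : Type) [Fintype α] [DecidableEq α] (O : Finset α) (g : Perm α),
    (∀ y, g y ∈ O ↔ y ∈ O) → ∀ k ∈ altOn O, g * k * g⁻¹ ∈ altOn O

/-- The statement of S2929. -/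
def S2929Stmt : Prop :=
  ∀ (n : ℕ) (_ : 5 ≤ n) (H : Subgroup (Equiv.Perm (Fin n)))
    (_ : Cfsg.IsQuasisimple ↥(Cfsg.generalizedFittingSubgroup ↥H))
    (_ : ∃ P : Sylow 3 (Equiv.Perm (Fin n)), (P : Subgroup (Equiv.Perm (Fin n))) ≤ H),
    ∃ m : ℕ, (m = n - 2 ∨ m = n - 1 ∨ m = n) ∧
      Nonempty (↥(Cfsg.generalizedFittingSubgroup ↥H) ≃* ↥(alternatingGroup (Fin m)))

end Cfsg.Agent.Lib.Helper73.TC
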